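import Mathlib.RingTheory.Ideal.KrullsHeightTheorem
import Mathlib.RingTheory.LocalProperties.Exactness
import Mathlib.RingTheory.Localization.BaseChange
import Mathlib.RingTheory.LocalRing.Module
import Mathlib.LinearAlgebra.Charpoly.BaseChange
import Mathlib.RingTheory.LocalRing.ResidueField.Fiber
import Mathlib.RingTheory.Spectrum.Prime.FreeLocus

/-!
A map of finite projective modules which is bijective on the fibres at the primes of height at most one
is bijective.
-/

set_option autoImplicit false

universe u

open TensorProduct

namespace Groth.Agent.Lib.CodimIso.Basic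

theorem bijective_baseChange_cancel {A C K : Type u} [CommRing A] [CommRing C] [CommRing K]
    [Algebra A C] [Algebra C K] [Algebra A K] [IsScalarTower A C K] {M N : Type u} [AddCommGroup M]
    [Module A M] [AddCommGroup N] [Module A N] (ψ : M →ₗ[A] N)
    (h : Function.Bijective (ψ.lTensor K)) :
    Function.Bijective ((ψ.baseChange C).baseChange K) := by
  let eM := TensorProduct.AlgebraTensorModule.cancelBaseChange A C K K M
  let eN := TensorProduct.AlgebraTensorModule.cancelBaseChange A C K K N
  have key : (eN.toLinearMap ∘ₗ (ψ.baseChange C).baseChange K) = ψ.baseChange K ∘ₗ eM.toLinearMap := by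
    ext m
    simp [eM, eN]
  have h' : Function.Bijective (ψ.baseChange K) := h
  have h2 : Function.Bijective (eN.toLinearMap ∘ₗ (ψ.baseChange C).baseChange K) := by
    rw [key]
    exact h'.comp eM.bijective
  exact (Function.Bijective.of_comp_iff' eN.bijective _).mp h2

theorem bijective_local {A : Type u} [CommRing A] [IsNoetherianRing A] (m : Ideal A) [m.IsMaximal]
    {M N : Type u} [AddCommGroup M] [Module A M] [Module.Finite A M] [Module.Projective A M]
    [AddCommGroup N] [Module A N] [Module.Finite A N] [Module.Projective A N] (ψ : M →ₗ[A] N)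
    (h : ∀ (p : Ideal A) [p.IsPrime], p ≤ m → p.height ≤ 1 →
      Function.Bijective (ψ.lTensor p.ResidueField)) :
    Function.Bijective (ψ.baseChange (Localization.AtPrime m)) := by
  classical
  let C := Localization.AtPrime m
  haveI : Module.Free C (C ⊗[A] M) := Module.free_of_flat_of_isLocalRing
  haveI : Module.Free C (C ⊗[A] N) := Module.free_of_flat_of_isLocalRing
  -- maps to the residue fields
  have hK : ∀ (p : Ideal A) [p.IsPrime] (hp : p ≤ m), ∃ g : C →+* p.ResidueField,
      g.comp (algebraMap A C) = algebraMap A p.ResidueField := by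
    intro p _ hp
    refine ⟨IsLocalization.lift (M := m.primeCompl) (g := algebraMap A p.ResidueField) fun y => ?_,
      IsLocalization.lift_comp _⟩
    exact isUnit_iff_ne_zero.mpr fun h0 => y.2 (hp (Ideal.algebraMap_residueField_eq_zero.mp h0))
  -- the ranks agree
  have hrank : Module.finrank C (C ⊗[A] N) = Module.finrank C (C ⊗[A] M) := by
    obtain ⟨p, hp, hpm⟩ := Ideal.exists_minimalPrimes_le (I := (⊥ : Ideal A)) (J := m) bot_le
    haveI := hp.1.1
    obtain ⟨g, hg⟩ := hK p hpm
    let := g.toAlgebra
    haveI : IsScalarTower A C p.ResidueField := IsScalarTower.of_algebraMap_eq' hg.symm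
    have hb := bijective_baseChange_cancel (C := C) ψ (h p hpm
      (by rw [Ideal.height_eq_zero_iff.mpr hp]; exact zero_le_one))
    have := (LinearEquiv.ofBijective _ hb).finrank_eq
    rw [show Module.finrank p.ResidueField (p.ResidueField ⊗[C] (C ⊗[A] M)) =
        Module.finrank C (C ⊗[A] M) from Module.finrank_baseChange,
      show Module.finrank p.ResidueField (p.ResidueField ⊗[C] (C ⊗[A] N)) =
        Module.finrank C (C ⊗[A] N) from Module.finrank_baseChange] at this
    exact this.symm
  obtain e := LinearEquiv.ofFinrankEq (C ⊗[A] N) (C ⊗[A] M) hrank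
  let E : Module.End C (C ⊗[A] M) := e.toLinearMap ∘ₗ ψ.baseChange C
  have hdet : IsUnit (LinearMap.det E) := by
    by_contra hnu
    have hne : Ideal.span {LinearMap.det E} ≠ ⊤ := by rwa [Ne, Ideal.span_singleton_eq_top]
    obtain ⟨q, hq⟩ := Ideal.nonempty_minimalPrimes hne
    haveI := hq.1.1
    have hq1 : q.height ≤ 1 :=
      Ideal.height_le_one_of_isPrincipal_of_mem_minimalPrimes (Ideal.span {LinearMap.det E}) q hq
    let p := q.under A
    have hpm : p ≤ m := fun a ha => by
      by_contra ham
      exact hq.1.1.ne_top (Ideal.eq_top_of_isUnit_mem _ ha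
        (IsLocalization.map_units C (⟨a, ham⟩ : m.primeCompl)))
    obtain ⟨g, hg⟩ := hK p hpm
    let := g.toAlgebra
    haveI : IsScalarTower A C p.ResidueField := IsScalarTower.of_algebraMap_eq' hg.symm
    have hp1 : p.height ≤ 1 := by
      rw [show p.height = q.height from IsLocalization.height_under m.primeCompl q]
      exact hq1
    have hb : Function.Bijective (E.baseChange p.ResidueField) := by
      rw [LinearMap.baseChange_comp]
      exact ((e.baseChange C p.ResidueField).bijective).comp
        (bijective_baseChange_cancel (C := C) ψ (h p hpm hp1))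
    have hu : IsUnit (LinearMap.det (E.baseChange p.ResidueField)) :=
      (LinearMap.isUnit_iff_isUnit_det _).mp ((Module.End.isUnit_iff _).mpr hb)
    rw [LinearMap.det_baseChange] at hu
    obtain ⟨a, s, has⟩ : ∃ (a : A) (s : m.primeCompl), LinearMap.det E = IsLocalization.mk' C a s :=
      let ⟨a, s, h'⟩ := IsLocalization.exists_mk'_eq m.primeCompl (LinearMap.det E); ⟨a, s, h'.symm⟩
    have hdq : LinearMap.det E ∈ q := hq.1.2 (Ideal.mem_span_singleton_self _)
    have haq : algebraMap A C a ∈ q := by
      rw [← IsLocalization.mk'_spec C a s, ← has]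
      exact q.mul_mem_right _ hdq
    have hzero : algebraMap A p.ResidueField a = 0 :=
      Ideal.algebraMap_residueField_eq_zero.mpr haq
    refine hu.ne_zero ?_
    rw [← hg, RingHom.comp_apply, ← IsLocalization.mk'_spec C a s, ← has, map_mul] at hzero
    refine (mul_eq_zero.mp hzero).resolve_right fun h0 => s.2 (hpm ?_)
    rw [← RingHom.comp_apply, hg] at h0
    exact Ideal.algebraMap_residueField_eq_zero.mp h0
  have hE : Function.Bijective E :=
    (Module.End.isUnit_iff E).mp ((LinearMap.isUnit_iff_isUnit_det E).mpr hdet)
  exact (Function.Bijective.of_comp_iff' e.bijective _).mp hE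

theorem bijective_of_height_le_one {A : Type u} [CommRing A] [IsNoetherianRing A]
    {M N : Type u} [AddCommGroup M] [Module A M] [Module.Finite A M] [Module.Projective A M]
    [AddCommGroup N] [Module A N] [Module.Finite A N] [Module.Projective A N] (ψ : M →ₗ[A] N)
    (h : ∀ (p : Ideal A) [p.IsPrime], p.height ≤ 1 → Function.Bijective (ψ.lTensor p.ResidueField)) :
    Function.Bijective ψ := by
  refine bijective_of_isLocalized_maximal
    (fun P _ => (Localization.AtPrime P) ⊗[A] M) (fun P _ => TensorProduct.mk A (Localization.AtPrime P) M 1)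
    (fun P _ => (Localization.AtPrime P) ⊗[A] N) (fun P _ => TensorProduct.mk A (Localization.AtPrime P) N 1)
    ψ fun P _ => ?_
  have key : IsLocalizedModule.map P.primeCompl (TensorProduct.mk A (Localization.AtPrime P) M 1)
      (TensorProduct.mk A (Localization.AtPrime P) N 1) ψ =
      (ψ.baseChange (Localization.AtPrime P)).restrictScalars A := by
    refine IsLocalizedModule.linearMap_ext P.primeCompl (TensorProduct.mk A (Localization.AtPrime P) M 1)
      (TensorProduct.mk A (Localization.AtPrime P) N 1) ?_
    ext m
    rw [LinearMap.comp_apply, IsLocalizedModule.map_apply]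
    simp
  rw [key]
  exact bijective_local P ψ fun p _ _ hp => h p hp

end Groth.Agent.Lib.CodimIso.Basic
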