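import Groth.Agent.Lib.CodimIso.Basic
import Groth.Agent.H2.Rigid.FibreIso
import Mathlib.RingTheory.RingHom.Flat
import Mathlib.AlgebraicGeometry.Noetherian

/-!
A morphism of finite flat schemes over a Noetherian base which is an isomorphism on the fibres over
the points of codimension at most one is an isomorphism.
-/

set_option autoImplicit false

universe u

open CategoryTheory Limits AlgebraicGeometry TensorProduct

namespace Groth.Agent.Lib.CodimIso.Scheme'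

theorem height_primeIdealOf {S : Scheme.{u}} {U : S.Opens} (hU : IsAffineOpen U) (x : U) :
    ringKrullDim (S.presheaf.stalk x.1) = ((hU.primeIdealOf x).asIdeal.height : WithBot ℕ∞) := by
  let := TopCat.Presheaf.algebra_section_stalk S.presheaf x
  have := hU.isLocalization_stalk x
  exact IsLocalization.AtPrime.ringKrullDim_eq_height (hU.primeIdealOf x).asIdeal _

/-- The range of a closed morphism containing the points of codimension zero is everything. -/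
theorem surjective_of_codim_zero {X S : Scheme.{u}} (f : X ⟶ S) (hf : IsClosed (Set.range f.base))
    (h : ∀ s : S, ringKrullDim (S.presheaf.stalk s) ≤ 0 → s ∈ Set.range f.base) :
    Function.Surjective f.base := by
  intro s
  obtain ⟨U, hU, hsU, -⟩ := exists_isAffineOpen_mem_and_subset (TopologicalSpace.Opens.mem_top s)
  obtain ⟨q, hq, hqp⟩ := Ideal.exists_minimalPrimes_le (I := (⊥ : Ideal Γ(S, U)))
    (J := (hU.primeIdealOf ⟨s, hsU⟩).asIdeal) bot_le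
  let qq : PrimeSpectrum Γ(S, U) := ⟨q, hq.1.1⟩
  let t : S := hU.fromSpec qq
  have htU : t ∈ U := by
    have : t ∈ Set.range hU.fromSpec := ⟨qq, rfl⟩
    rwa [hU.range_fromSpec] at this
  have hpt : hU.primeIdealOf ⟨t, htU⟩ = qq :=
    hU.fromSpec.isOpenEmbedding.injective (hU.fromSpec_primeIdealOf ⟨t, htU⟩)
  have hdim : ringKrullDim (S.presheaf.stalk t) ≤ 0 := by
    rw [height_primeIdealOf hU ⟨t, htU⟩, hpt]
    haveI := hq.1.1
    rw [show qq.asIdeal = q from rfl, Ideal.height_eq_zero_iff.mpr hq]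
    exact le_rfl
  have hsp : t ⤳ s := by
    have h1 : hU.fromSpec qq ⤳ hU.fromSpec (hU.primeIdealOf ⟨s, hsU⟩) :=
      ((PrimeSpectrum.le_iff_specializes qq _).mp hqp).map hU.fromSpec.continuous
    rwa [hU.fromSpec_primeIdealOf] at h1
  exact hsp.mem_closed hf (h t hdim)

theorem isIso_of_codim_one {X Y S : Scheme.{u}} [IsLocallyNoetherian S] (g : X ⟶ S) (h : Y ⟶ S)
    [IsFinite g] [Flat g] [IsFinite h] [Flat h] (f : X ⟶ Y) (w : f ≫ h = g)
    (hfib : ∀ s : S, ringKrullDim (S.presheaf.stalk s) ≤ 1 →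
      s ∈ Set.range h.base ∧ ∃ e : g.fiber s ≅ h.fiber s, e.hom ≫ h.fiberι s = g.fiberι s ≫ f) :
    IsIso f := by
  refine IsZariskiLocalAtTarget.of_iSup_eq_top (P := MorphismProperty.isomorphisms Scheme)
    (fun U : S.affineOpens => h ⁻¹ᵁ U.1) ?_ fun U => ?_
  · refine top_le_iff.mp fun y _ => TopologicalSpace.Opens.mem_iSup.mpr ?_
    obtain ⟨U, hU, hy, -⟩ := exists_isAffineOpen_mem_and_subset (TopologicalSpace.Opens.mem_top (h y))
    exact ⟨⟨U, hU⟩, hy⟩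
  obtain ⟨U, hU : IsAffineOpen U⟩ := U
  change IsIso (f ∣_ (h ⁻¹ᵁ U))
  have hV : IsAffineOpen (h ⁻¹ᵁ U) := hU.preimage h
  have hpre : f ⁻¹ᵁ (h ⁻¹ᵁ U) = g ⁻¹ᵁ U := by rw [← w, Scheme.Hom.comp_preimage]
  have hW : IsAffineOpen (f ⁻¹ᵁ (h ⁻¹ᵁ U)) := hpre ▸ hU.preimage g
  refine Groth.Agent.H2.Rigid.isIso_morphismRestrict_of_bijective f hV hW ?_
  let := (h.appLE U (h ⁻¹ᵁ U) le_rfl).hom.toAlgebra
  let := (f.app (h ⁻¹ᵁ U)).hom.toAlgebra
  let := ((f.app (h ⁻¹ᵁ U)).hom.comp (h.appLE U (h ⁻¹ᵁ U) le_rfl).hom).toAlgebra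
  haveI : IsScalarTower Γ(S, U) Γ(Y, h ⁻¹ᵁ U) Γ(X, f ⁻¹ᵁ (h ⁻¹ᵁ U)) :=
    IsScalarTower.of_algebraMap_eq' rfl
  haveI : IsNoetherianRing Γ(S, U) := IsLocallyNoetherian.component_noetherian ⟨U, hU⟩
  haveI : Module.Finite Γ(S, U) Γ(Y, h ⁻¹ᵁ U) := by
    have := IsFinite.finite_app (f := h) U hU
    rw [Scheme.Hom.app_eq_appLE] at this
    exact this
  haveI : Module.Flat Γ(S, U) Γ(Y, h ⁻¹ᵁ U) := h.flat_appLE hU hV le_rfl
  have key : ((f.app (h ⁻¹ᵁ U)).hom.comp (h.appLE U (h ⁻¹ᵁ U) le_rfl).hom).Finite ∧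
      ((f.app (h ⁻¹ᵁ U)).hom.comp (h.appLE U (h ⁻¹ᵁ U) le_rfl).hom).Flat := by
    have h1 := IsFinite.finite_app (f := g) U hU
    have h2 := g.flat_appLE hU (hU.preimage g) le_rfl
    subst w
    rw [Scheme.Hom.comp_app, ← Scheme.Hom.app_eq_appLE] at *
    rw [Scheme.Hom.comp_app] at h2
    exact ⟨h1, h2⟩
  haveI : Module.Finite Γ(S, U) Γ(X, f ⁻¹ᵁ (h ⁻¹ᵁ U)) := key.1
  haveI : Module.Flat Γ(S, U) Γ(X, f ⁻¹ᵁ (h ⁻¹ᵁ U)) := key.2
  haveI : Module.FinitePresentation Γ(S, U) Γ(Y, h ⁻¹ᵁ U) := Module.finitePresentation_of_finite _ _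
  haveI : Module.FinitePresentation Γ(S, U) Γ(X, f ⁻¹ᵁ (h ⁻¹ᵁ U)) :=
    Module.finitePresentation_of_finite _ _
  haveI : Module.Projective Γ(S, U) Γ(Y, h ⁻¹ᵁ U) := Module.Flat.projective_of_finitePresentation
  haveI : Module.Projective Γ(S, U) Γ(X, f ⁻¹ᵁ (h ⁻¹ᵁ U)) := Module.Flat.projective_of_finitePresentation
  refine Groth.Agent.Lib.CodimIso.Basic.bijective_of_height_le_one
    ((Algebra.linearMap Γ(Y, h ⁻¹ᵁ U) Γ(X, f ⁻¹ᵁ (h ⁻¹ᵁ U))).restrictScalars Γ(S, U))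
    fun p _ hp => ?_
  let s : S := hU.fromSpec ⟨p, inferInstance⟩
  have hsU : s ∈ U := by
    have : s ∈ Set.range hU.fromSpec := ⟨⟨p, inferInstance⟩, rfl⟩
    rwa [hU.range_fromSpec] at this
  have hps : hU.primeIdealOf ⟨s, hsU⟩ = ⟨p, inferInstance⟩ :=
    hU.fromSpec.isOpenEmbedding.injective (hU.fromSpec_primeIdealOf ⟨s, hsU⟩)
  have hdim : ringKrullDim (S.presheaf.stalk s) ≤ 1 := by
    rw [height_primeIdealOf hU ⟨s, hsU⟩, hps]
    exact WithBot.coe_le_coe.mpr hp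
  obtain ⟨⟨y, hy⟩, e, he⟩ := hfib s hdim
  have hyV : y ∈ h ⁻¹ᵁ U := by
    change h y ∈ U
    rw [show h y = s from hy]
    exact hsU
  have hb := Groth.Agent.H2.Rigid.fibre_bijective g h f e he w hU hV hW le_rfl ⟨y, hyV⟩ hy
  have hpp : PrimeSpectrum.comap (algebraMap Γ(S, U) Γ(Y, h ⁻¹ᵁ U)) (hV.primeIdealOf ⟨y, hyV⟩) =
      ⟨p, inferInstance⟩ := by
    refine hU.fromSpec.isOpenEmbedding.injective ?_
    refine Eq.trans ?_ ((congrArg h.base (hV.fromSpec_primeIdealOf ⟨y, hyV⟩)).trans hy)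
    exact congr($(hU.SpecMap_appLE_fromSpec h hV le_rfl) (hV.primeIdealOf ⟨y, hyV⟩))
  rw [hpp] at hb
  exact hb

end Groth.Agent.Lib.CodimIso.Scheme'
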